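import Cfsg.Agent.H68.Ore.Inv

/-!
# Centralizer bounds of words (helper68)

`chkC`: the checker of helper633 for a word; `card_cent_le`: the bound for the centralizer.
-/

set_option autoImplicit false

namespace Cfsg.Agent.H68.Ore.CertW

open Cfsg.Agent.H633.Ore Cfsg.Agent.H68.Ore.Words Cfsg.Agent.H68.Ore.Inv

/-- the check for a word; `m` = the largest exponent -/
noncomputable def chkC (Gs : List (List ℕ)) (w0 n T : ℕ) (CT : List ℕ) (m : ℕ) (w : List ℕ) (s : List Step) : Bool :=
  wm Gs w0 w fun L => pwF L m (idL w0) fun Ls => force (mkM (fun _ => true) n 0) fun F =>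
    chk w0 n T CT (Nat.succ m) Ls s [F] []

section

variable {G : Type*} [Group G] [Finite G] {Y : Type*} [MulAction G Y] (M : Mdl G Y)

theorem card_cent_le {tt : ℕ → G} {Gs : List (List ℕ)} {N : ℕ} (hG : ∀ c < N, M.Rp (nthL Gs c) (tt c)) {m : ℕ}
    {w : List ℕ} {s : List Step} (hw : allLt N w = true) (h : chkC Gs M.w M.n M.T M.CT m w s = true) :
    Nat.card ↥(Subgroup.centralizer ({wd tt w} : Set G)) ≤ prodB s := by
  rw [chkC, wm_eq, pwF_eq, force_eq] at h
  have hr := rp_word M hG w hw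
  refine chk_sound (M := M) (r := wd tt w) (Ls := pw (matW Gs M.w w) m (idL M.w)) (N := m + 1) (fun j hj => ?_) s
    [mkM (fun _ => true) M.n 0] [] _ (fun x hx => ?_) (fun A hA => ?_) (fun v hv => absurd hv List.not_mem_nil) h
  · have := rp_pow M hr m (Nat.le_of_lt_succ hj)
    rwa [nthL_eq] at this
  · exact Subgroup.mem_centralizer_singleton_iff.1 hx
  · rw [List.mem_singleton] at hA
    subst hA
    refine ⟨vm_mkM _ _, fun x _ y => ?_⟩
    unfold Mdl.mem
    rw [testBit_mkM _ (M.idx_lt _), testBit_mkM _ (M.idx_lt _)]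

end

end Cfsg.Agent.H68.Ore.CertW
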