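import Cfsg.Agent.H633.Ore.Cov
import Cfsg.Agent.H235.Ore.ClassList
import Cfsg.Agent.H68.Ore.Words

/-!
# Class functions by kernel computations and the cover theorem (helper68)

On a model `M : Mdl G Y` (helper633): numbers of fixed points of powers, the number `phi r` of pairs `(y, z)` with
`y ~ r y`, `z ~ r² z`, `z ~ y, r y, r⁴ y`, which may distinguish `r` and `r⁻¹`. `cover`: the list of words meets every
conjugacy class up to inversion.
-/

set_option autoImplicit false

namespace Cfsg.Agent.H68.Ore.Inv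

open Cfsg.Agent.H633.Ore Cfsg.Agent.H68.Ore.Words

/-! ### loops -/

/-- the sum of `f k`, `k < n` -/
noncomputable def sumG (f : ℕ → ℕ) (n : ℕ) : ℕ → ℕ :=
  Nat.rec (fun acc => acc) (fun k ih acc => force (Nat.add acc (f k)) fun a => ih a) n

theorem sumG_eq (f : ℕ → ℕ) (n : ℕ) : ∀ acc, sumG f n acc = acc + ∑ k ∈ Finset.range n, f k := by
  induction n with
  | zero => intro acc; rw [Finset.sum_range_zero]; rfl
  | succ n ih =>
    intro acc
    have e : sumG f (n + 1) acc = force (Nat.add acc (f n)) fun a => sumG f n a := rfl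
    rw [e, force_eq, ih, Finset.sum_range_succ]
    show acc + f n + _ = _
    ring

/-- the mask of `k < n` with `test k` -/
noncomputable def mkM (test : ℕ → Bool) (n : ℕ) : ℕ → ℕ :=
  Nat.rec (fun acc => acc) (fun k ih acc => force (cond (test k) (Nat.lor acc (Nat.pow 2 (Nat.mul 12 k))) acc) fun a => ih a) n

theorem mkM_eq (test : ℕ → Bool) (n : ℕ) : ∀ acc b, (mkM test n acc).testBit b =
    (acc.testBit b || decide (∃ k < n, test k = true ∧ b = 12 * k)) := by
  induction n with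
  | zero =>
    intro acc b
    have e : mkM test 0 acc = acc := rfl
    rw [e]
    simp
  | succ n ih =>
    intro acc b
    have e : mkM test (n + 1) acc =
        force (cond (test n) (Nat.lor acc (Nat.pow 2 (Nat.mul 12 n))) acc) fun a => mkM test n a := rfl
    rw [e, force_eq, ih]
    have h1 : (cond (test n) (Nat.lor acc (Nat.pow 2 (Nat.mul 12 n))) acc).testBit b =
        (acc.testBit b || (test n && decide (b = 12 * n))) := by
      cases h : test n
      · simp
      · show (acc ||| 2 ^ (12 * n)).testBit b = _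
        rw [Nat.testBit_or, Nat.testBit_two_pow]
        simp [eq_comm]
    rw [h1, Bool.or_assoc]
    congr 1
    rw [Bool.eq_iff_iff]
    simp only [Bool.or_eq_true, Bool.and_eq_true, decide_eq_true_eq]
    constructor
    · rintro (⟨h, rfl⟩ | ⟨k, hk, h⟩)
      · exact ⟨n, Nat.lt_succ_self n, h, rfl⟩
      · exact ⟨k, Nat.lt_succ_of_lt hk, h⟩
    · rintro ⟨k, hk, h, rfl⟩
      rcases Nat.lt_succ_iff_lt_or_eq.1 hk with hk | rfl
      · exact Or.inr ⟨k, hk, h, rfl⟩
      · exact Or.inl ⟨h, rfl⟩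

theorem vm_mkM (test : ℕ → Bool) (n : ℕ) : Vm n (mkM test n 0) := by
  intro b hb
  rw [mkM_eq, Nat.zero_testBit, Bool.false_or, decide_eq_true_eq] at hb
  obtain ⟨k, hk, -, rfl⟩ := hb
  exact ⟨k, hk, rfl⟩

theorem testBit_mkM (test : ℕ → Bool) {n i : ℕ} (hi : i < n) : (mkM test n 0).testBit (12 * i) = test i := by
  rw [mkM_eq, Nat.zero_testBit, Bool.false_or, Bool.eq_iff_iff, decide_eq_true_eq]
  constructor
  · rintro ⟨k, -, hk, h⟩
    have : i = k := by omega
    rwa [this]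
  · intro h
    exact ⟨i, hi, h, rfl⟩

/-! ### words -/

/-- the matrix of a word -/
noncomputable def matW (Gs : List (List ℕ)) (w0 : ℕ) : List ℕ → List ℕ
  | [] => idL w0
  | c :: w => (matW Gs w0 w).map (linL (nthL Gs c))

/-- eager version -/
noncomputable def wm {β : Sort _} (Gs : List (List ℕ)) (w0 : ℕ) : List ℕ → (List ℕ → β) → β :=
  List.rec (fun k => k (idL w0)) (fun c _ ih k => ih fun L => mapF (linL (nthL Gs c)) L k)

theorem wm_eq {β : Sort _} (Gs : List (List ℕ)) (w0 : ℕ) : ∀ (w : List ℕ) (k : List ℕ → β),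
    wm Gs w0 w k = k (matW Gs w0 w)
  | [], k => rfl
  | c :: w, k => by
    have e : wm Gs w0 (c :: w) k = wm Gs w0 w fun L => mapF (linL (nthL Gs c)) L k := rfl
    rw [e, wm_eq Gs w0 w, mapF_eq]
    rfl

section

variable {G : Type*} [Group G] {Y : Type*} [MulAction G Y] (M : Mdl G Y)

theorem rp_word {tt : ℕ → G} {Gs : List (List ℕ)} {N : ℕ} (hG : ∀ c < N, M.Rp (nthL Gs c) (tt c)) :
    ∀ (w : List ℕ), allLt N w = true → M.Rp (matW Gs M.w w) (wd tt w)
  | [], _ => Mdl.Rp.one M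
  | c :: w, h => by
    have h1 := allLt_iff h
    have h2 : allLt N w = true := by
      have e : allLt N (c :: w) = cond (Nat.blt c N) (allLt N w) false := rfl
      rw [e] at h
      cases hb : Nat.blt c N
      · rw [hb] at h
        exact absurd h Bool.false_ne_true
      · rw [hb] at h
        exact h
    have e : wd tt (c :: w) = tt c * wd tt w := by
      rw [wd, List.map_cons, List.prod_cons]
      rfl
    rw [e]
    exact Mdl.Rp.mul M (hG c (h1 c List.mem_cons_self)) (rp_word hG w h2)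

/-- the powers of a matrix -/
theorem rp_pow {L : List ℕ} {g : G} (hL : M.Rp L g) (m : ℕ) {j : ℕ} (hj : j ≤ m) :
    M.Rp (nthL (pw L m (idL M.w)) j) (g ^ j) := by
  have h := Mdl.Rp.pw M hL m (idL M.w) 0 (by rw [pow_zero]; exact Mdl.Rp.one M) j hj
  rwa [Nat.zero_add, ← nthL_eq] at h

/-! ### sums over the points -/

theorem sum_idx [Fintype Y] (f : ℕ → ℕ) : ∑ k ∈ Finset.range M.n, f k = ∑ y : Y, f (M.idx y) := by
  rw [← Fin.sum_univ_eq_sum_range]
  exact (Fintype.sum_equiv (Equiv.ofBijective _ M.idxEquiv_aux) (fun y => f (M.idx y)) (fun i : Fin M.n => f i)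
    fun y => rfl).symm

/-- the number of fixed points -/
noncomputable def fixK (w T n : ℕ) (L : List ℕ) : ℕ := sumG (fun i => cond (tFix w T L 1 i) 1 0) n 0

theorem fixK_eq [Finite Y] {L : List ℕ} {g : G} (hL : M.Rp L g) :
    fixK M.w M.T M.n L = Nat.card {y : Y // g • y = y} := by
  classical
  have := Fintype.ofFinite Y
  rw [fixK, sumG_eq, Nat.zero_add, sum_idx M, Nat.card_eq_fintype_card, Fintype.card_subtype, Finset.card_filter]
  refine Finset.sum_congr rfl fun y _ => ?_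
  rw [tFix_eq hL]
  by_cases h : g • y = y
  · rw [if_pos h, if_pos h]
    rfl
  · rw [if_neg h, if_neg h]
    rfl

/-- the class function with values lists of numbers of fixed points -/
noncomputable def fv (Y : Type*) [MulAction G Y] (js : List ℕ) (g : G) : List ℕ :=
  js.map fun j => Nat.card {y : Y // g ^ j • y = y}

theorem fv_conj (js : List ℕ) (x g : G) : fv Y js (x * g * x⁻¹) = fv Y js g := by
  refine List.map_congr_left fun j _ => ?_
  refine Nat.card_congr (Equiv.subtypeEquiv (MulAction.toPerm x⁻¹) fun y => ?_)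
  show _ ↔ g ^ j • x⁻¹ • y = x⁻¹ • y
  rw [conj_pow, mul_smul, mul_smul]
  constructor
  · intro h
    have := congrArg (fun z => x⁻¹ • z) h
    simpa using this
  · intro h
    rw [h, smul_inv_smul]

theorem fv_inv (js : List ℕ) (g : G) : fv Y js g⁻¹ = fv Y js g := by
  refine List.map_congr_left fun j _ => ?_
  refine Nat.card_congr (Equiv.subtypeEquivRight fun y => ?_)
  rw [inv_pow, inv_smul_eq_iff, eq_comm]

theorem fv_isConj (js : List ℕ) {g h : G} (e : IsConj g h) : fv Y js g = fv Y js h := by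
  obtain ⟨x, rfl⟩ := isConj_iff.1 e
  exact (fv_conj js x g).symm

/-- check of the numbers of fixed points of the powers -/
noncomputable def chkV (w T n : ℕ) (Ls : List (List ℕ)) (m : ℕ) : List ℕ → List ℕ → Bool :=
  List.rec (fun vs => cond (Nat.beq vs.length 0) true false) (fun j _ ih vs =>
    cond (Nat.ble j m) (List.rec false (fun v vs _ => cond (Nat.beq (fixK w T n (nthL Ls j)) v) (ih vs) false) vs) false)

theorem chkV_cons (w T n : ℕ) (Ls : List (List ℕ)) (m j : ℕ) (js : List ℕ) (v : ℕ) (vs : List ℕ) :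
    chkV w T n Ls m (j :: js) (v :: vs) =
      cond (Nat.ble j m) (cond (Nat.beq (fixK w T n (nthL Ls j)) v) (chkV w T n Ls m js vs) false) false := rfl

theorem chkV_sound [Finite Y] {L : List ℕ} {g : G} (hL : M.Rp L g) {m : ℕ} : ∀ (js vs : List ℕ),
    chkV M.w M.T M.n (pw L m (idL M.w)) m js vs = true → fv Y js g = vs
  | [], vs, h => by
    have e : chkV M.w M.T M.n (pw L m (idL M.w)) m [] vs = cond (Nat.beq vs.length 0) true false := rfl
    rw [e] at h
    cases hb : Nat.beq vs.length 0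
    · rw [hb] at h
      exact absurd h Bool.false_ne_true
    · have := List.eq_nil_of_length_eq_zero (Nat.eq_of_beq_eq_true hb)
      rw [this]
      rfl
  | j :: js, [], h => by
    have e : chkV M.w M.T M.n (pw L m (idL M.w)) m (j :: js) [] = cond (Nat.ble j m) false false := rfl
    rw [e] at h
    cases hb : Nat.ble j m <;> rw [hb] at h <;> exact absurd h Bool.false_ne_true
  | j :: js, v :: vs, h => by
    rw [chkV_cons] at h
    cases hb : Nat.ble j m
    · rw [hb] at h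
      exact absurd h Bool.false_ne_true
    · rw [hb, cond_true] at h
      cases hv : Nat.beq (fixK M.w M.T M.n (nthL (pw L m (idL M.w)) j)) v
      · rw [hv] at h
        exact absurd h Bool.false_ne_true
      · rw [hv, cond_true] at h
        have h1 := chkV_sound hL js vs h
        have h2 := Nat.eq_of_beq_eq_true hv
        rw [fixK_eq M (rp_pow M hL m (Nat.le_of_ble_eq_true hb))] at h2
        show Nat.card {y : Y // g ^ j • y = y} :: fv Y js g = _
        rw [h1, h2]

/-- check for a word -/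
noncomputable def chkWV (Gs : List (List ℕ)) (w0 T n m : ℕ) (js w vs : List ℕ) : Bool :=
  wm Gs w0 w fun L => pwF L m (idL w0) fun Ls => chkV w0 T n Ls m js vs

theorem fv_of_chk [Finite Y] {tt : ℕ → G} {Gs : List (List ℕ)} {N : ℕ} (hG : ∀ c < N, M.Rp (nthL Gs c) (tt c))
    {m : ℕ} {js w vs : List ℕ} (hw : allLt N w = true) (h : chkWV Gs M.w M.T M.n m js w vs = true) :
    fv Y js (wd tt w) = vs := by
  rw [chkWV, wm_eq, pwF_eq] at h
  exact chkV_sound M (rp_word M hG w hw) js vs h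

/-! ### the function `phi` -/

/-- the number of pairs `(y, z)` with `y ~ r₁ y`, `z ~ r₂ z`, `z ~ y, a y, b y` -/
noncomputable def phi (r₁ r₂ a b : G) : ℕ :=
  Nat.card {p : Y × Y // M.bf p.1 (r₁ • p.1) = true ∧ M.bf p.2 (r₂ • p.2) = true ∧ M.bf p.2 p.1 = true ∧
    M.bf p.2 (a • p.1) = true ∧ M.bf p.2 (b • p.1) = true}

theorem phi_conj (x r₁ r₂ a b : G) :
    phi M (x * r₁ * x⁻¹) (x * r₂ * x⁻¹) (x * a * x⁻¹) (x * b * x⁻¹) = phi M r₁ r₂ a b := by
  refine Nat.card_congr (Equiv.subtypeEquiv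
    (Equiv.prodCongr (MulAction.toPerm x⁻¹) (MulAction.toPerm x⁻¹)) fun p => ?_)
  obtain ⟨y, z⟩ := p
  show _ ↔ M.bf (x⁻¹ • y) (r₁ • x⁻¹ • y) = true ∧ M.bf (x⁻¹ • z) (r₂ • x⁻¹ • z) = true ∧
    M.bf (x⁻¹ • z) (x⁻¹ • y) = true ∧ M.bf (x⁻¹ • z) (a • x⁻¹ • y) = true ∧ M.bf (x⁻¹ • z) (b • x⁻¹ • y) = true
  have key : ∀ (u v : Y) (c : G), M.bf (x⁻¹ • u) (c • x⁻¹ • v) = M.bf u ((x * c * x⁻¹) • v) := by
    intro u v c
    have := M.inv x (x⁻¹ • u) (c • x⁻¹ • v)
    rw [smul_inv_smul] at this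
    rw [← this, mul_smul, mul_smul]
  have key1 : M.bf (x⁻¹ • z) (x⁻¹ • y) = M.bf z y := M.inv x⁻¹ z y
  rw [key, key, key, key, key1]

/-- the kernel computation of `phi` -/
noncomputable def phiK (w T n : ℕ) (C1 C2 CT Ca Cb : List ℕ) : ℕ :=
  force (mkM (tSelf w T C2 1) n 0) fun A =>
    sumG (fun i => cond (tSelf w T C1 1 i)
      (force (ent w T i) fun c => Nat.mod (Nat.land (Nat.land A (linL CT c)) (Nat.land (linL Ca c) (linL Cb c))) 4095)
      0) n 0

theorem phiK_eq [Finite Y] {L1 L2 La Lb : List ℕ} {r₁ r₂ a b : G} (h1 : M.Rp L1 r₁) (h2 : M.Rp L2 r₂)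
    (ha : M.Rp La a) (hb : M.Rp Lb b) : phiK M.w M.T M.n (L1.map (linL M.CT)) (L2.map (linL M.CT)) M.CT
      (La.map (linL M.CT)) (Lb.map (linL M.CT)) = phi M r₁ r₂ a b := by
  classical
  have := Fintype.ofFinite Y
  rw [phiK, force_eq, sumG_eq, Nat.zero_add, sum_idx M]
  have hR : phi M r₁ r₂ a b = ∑ y : Y, if M.bf y (r₁ • y) = true then
      Nat.card {z : Y // M.bf z (r₂ • z) = true ∧ M.bf z y = true ∧ M.bf z (a • y) = true ∧ M.bf z (b • y) = true}
      else 0 := by
    rw [phi]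
    have e : {p : Y × Y // M.bf p.1 (r₁ • p.1) = true ∧ M.bf p.2 (r₂ • p.2) = true ∧ M.bf p.2 p.1 = true ∧
        M.bf p.2 (a • p.1) = true ∧ M.bf p.2 (b • p.1) = true} ≃
        Σ y : Y, {z : Y // M.bf y (r₁ • y) = true ∧ M.bf z (r₂ • z) = true ∧ M.bf z y = true ∧
          M.bf z (a • y) = true ∧ M.bf z (b • y) = true} :=
      { toFun := fun p => ⟨p.1.1, ⟨p.1.2, p.2⟩⟩
        invFun := fun q => ⟨(q.1, q.2.1), q.2.2⟩
        left_inv := fun p => rfl
        right_inv := fun q => rfl }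
    rw [Nat.card_congr e, Nat.card_sigma]
    refine Finset.sum_congr rfl fun y _ => ?_
    by_cases h : M.bf y (r₁ • y) = true
    · rw [if_pos h]
      exact Nat.card_congr (Equiv.subtypeEquivRight fun z => ⟨fun h' => h'.2, fun h' => ⟨h, h'⟩⟩)
    · rw [if_neg h, Nat.card_eq_zero]
      exact Or.inl ⟨fun z => h z.2.1⟩
  rw [hR]
  refine Finset.sum_congr rfl fun y _ => ?_
  rw [tSelf_eq h1]
  cases hy : M.bf y (r₁ • y)
  · rfl
  · rw [if_pos rfl]
    have e : Nat.beq true.toNat 1 = true := rfl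
    rw [e, cond_true, force_eq]
    set A := mkM (tSelf M.w M.T (L2.map (linL M.CT)) 1) M.n 0 with hA
    have hvA : Vm M.n A := vm_mkM _ _
    have e1 : linL (La.map (linL M.CT)) (ent M.w M.T (M.idx y)) = linL M.CT (M.cd (a • y)) := linL_row ha y
    have e2 : linL (Lb.map (linL M.CT)) (ent M.w M.T (M.idx y)) = linL M.CT (M.cd (b • y)) := linL_row hb y
    rw [e1, e2, M.ent_idx]
    show ((A &&& linL M.CT (M.cd y)) &&& (linL M.CT (M.cd (a • y)) &&& linL M.CT (M.cd (b • y)))) % 4095 = _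
    rw [← M.card_mask ((hvA.and).and)]
    refine Nat.card_congr (Equiv.subtypeEquivRight fun z => ?_)
    unfold Mdl.mem
    rw [Nat.testBit_and, Nat.testBit_and, Nat.testBit_and, Bool.and_eq_true, Bool.and_eq_true, Bool.and_eq_true,
      M.row, M.row, M.row, hA, testBit_mkM _ (M.idx_lt z), tSelf_eq h2]
    have e3 : Nat.beq (M.bf z (r₂ • z)).toNat 1 = M.bf z (r₂ • z) := by
      cases M.bf z (r₂ • z) <;> rfl
    rw [e3]
    tauto

/-- `phi` for a word: `r, r², r, r⁴` -/
noncomputable def phiW (Gs : List (List ℕ)) (w0 T n : ℕ) (CT : List ℕ) (w : List ℕ) : ℕ :=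
  wm Gs w0 w fun L => mapF (linL L) L fun L2 => mapF (linL L2) L2 fun L4 =>
    mapF (linL CT) L fun C1 => mapF (linL CT) L2 fun C2 => mapF (linL CT) L4 fun C4 => phiK w0 T n C1 C2 CT C1 C4

theorem phiW_eq [Finite Y] {tt : ℕ → G} {Gs : List (List ℕ)} {N : ℕ} (hG : ∀ c < N, M.Rp (nthL Gs c) (tt c))
    {w : List ℕ} (hw : allLt N w = true) : phiW Gs M.w M.T M.n M.CT w =
      phi M (wd tt w) (wd tt w ^ 2) (wd tt w) (wd tt w ^ 4) := by
  have h1 := rp_word M hG w hw
  have h2 := Mdl.Rp.mul M h1 h1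
  rw [← pow_two] at h2
  have h4 := Mdl.Rp.mul M h2 h2
  rw [← pow_add] at h4
  rw [phiW, wm_eq]
  simp only [mapF_eq]
  exact phiK_eq M h1 h2 h1 h4

/-- `r` and `r⁻¹` are not conjugate -/
theorem not_isConj_inv [Finite Y] {tt : ℕ → G} (ht : ∀ k, tt k * tt k = 1) {Gs : List (List ℕ)} {N : ℕ}
    (hG : ∀ c < N, M.Rp (nthL Gs c) (tt c)) {w : List ℕ} (hw : allLt N w = true) (hw' : allLt N w.reverse = true)
    (h : Nat.beq (phiW Gs M.w M.T M.n M.CT w) (phiW Gs M.w M.T M.n M.CT w.reverse) = false) :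
    ¬ IsConj (wd tt w) (wd tt w)⁻¹ := by
  intro hc
  obtain ⟨x, hx⟩ := isConj_iff.1 hc
  rw [phiW_eq M hG hw, phiW_eq M hG hw', wd_reverse ht, ← hx] at h
  have e : ∀ k, (x * wd tt w * x⁻¹) ^ k = x * wd tt w ^ k * x⁻¹ := fun k => conj_pow
  rw [e, e, phi_conj, Nat.beq_refl] at h
  exact absurd h (by simp)

end

/-! ### the cover -/

/-- **the cover theorem** -/
theorem cover {G : Type*} [Group G] [Finite G] {Y : Type*} [MulAction G Y] {tt : ℕ → G} (js : List ℕ)
    (W : List (List ℕ × ℕ)) (W' : List (List ℕ × ℕ)) (hsub : ∀ p ∈ W', p ∈ W) (hnd : (W'.map Prod.fst).Nodup)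
    (hfv : (W.map fun p => fv Y js (wd tt p.1)).Nodup) (hphi : ∀ p ∈ W', ¬ IsConj (wd tt p.1) (wd tt p.1)⁻¹)
    (hc : ∀ p ∈ W, Nat.card ↥(Subgroup.centralizer ({wd tt p.1} : Set G)) ≤ p.2)
    (hs : Nat.card G ≤ (W.map fun p => Nat.card G / p.2).sum + (W'.map fun p => Nat.card G / p.2).sum) (g : G) :
    ∃ p ∈ W, IsConj (wd tt p.1) g ∨ IsConj (wd tt p.1)⁻¹ g := by
  have hinj : ∀ p ∈ W, ∀ q ∈ W, fv Y js (wd tt p.1) = fv Y js (wd tt q.1) → p = q := fun p hp q hq h =>
    List.inj_on_of_nodup_map hfv hp hq h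
  have key := H235.Ore.ClassList.complete ((W.map fun p => (wd tt p.1, p.2)) ++ (W'.map fun p => ((wd tt p.1)⁻¹, p.2)))
    ?_ ?_ ?_ g
  · obtain ⟨q, hq, hqg⟩ := key
    rcases List.mem_append.1 hq with hq | hq
    · obtain ⟨p, hp, rfl⟩ := List.mem_map.1 hq
      exact ⟨p, hp, Or.inl hqg⟩
    · obtain ⟨p, hp, rfl⟩ := List.mem_map.1 hq
      exact ⟨p, hsub p hp, Or.inr hqg⟩
  · intro q hq
    rcases List.mem_append.1 hq with hq | hq
    · obtain ⟨p, hp, rfl⟩ := List.mem_map.1 hq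
      exact hc p hp
    · obtain ⟨p, hp, rfl⟩ := List.mem_map.1 hq
      show Nat.card ↥(Subgroup.centralizer ({(wd tt p.1)⁻¹} : Set G)) ≤ p.2
      rw [H235.Ore.ClassList.card_cent_inv]
      exact hc p (hsub p hp)
  · rw [List.map_append, List.map_map, List.map_map, List.nodup_append]
    refine ⟨?_, ?_, ?_⟩
    · refine List.Nodup.of_map (f := fun c : ConjClasses G => Quotient.liftOn c (fv Y js) fun a b h =>
        fv_isConj js h) ?_
      rw [List.map_map]
      exact hfv
    · rw [List.nodup_map_iff_inj_on (List.Nodup.of_map _ hnd)]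
      intro p hp q hq h
      have h1 : IsConj (wd tt p.1)⁻¹ (wd tt q.1)⁻¹ := ConjClasses.mk_eq_mk_iff_isConj.1 h
      have h2 := fv_isConj (Y := Y) js h1
      rw [fv_inv, fv_inv] at h2
      exact hinj p (hsub p hp) q (hsub q hq) h2
    · intro c hc1 d hd hcd
      obtain ⟨p, hp, rfl⟩ := List.mem_map.1 hc1
      obtain ⟨q, hq, rfl⟩ := List.mem_map.1 hd
      have h1 : IsConj (wd tt p.1) (wd tt q.1)⁻¹ := ConjClasses.mk_eq_mk_iff_isConj.1 hcd
      have h2 := fv_isConj (Y := Y) js h1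
      rw [fv_inv] at h2
      have h3 := hinj p hp q (hsub q hq) h2
      rw [h3] at h1
      exact hphi q hq h1
  · rw [List.map_append, List.map_map, List.map_map, List.sum_append]
    exact hs

end Cfsg.Agent.H68.Ore.Inv
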