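import Cfsg.Agent.H68.Ore.Inv

/-!
# Identities of words by matrices (helper68)

On a model `M : Mdl G Y`: equality of two words and the order of a word by matrices over `F₂`.
-/

set_option autoImplicit false

namespace Cfsg.Agent.H68.Ore.WordEq

open Cfsg.Agent.H633.Ore Cfsg.Agent.H68.Ore.Words Cfsg.Agent.H68.Ore.Inv

/-- equality of lists of numbers -/
noncomputable def eqL : List ℕ → List ℕ → Bool :=
  List.rec (fun l => List.rec true (fun _ _ _ => false) l)
    (fun a _ ih l => List.rec false (fun b l' _ => cond (Nat.beq a b) (ih l') false) l)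

theorem eqL_sound : ∀ (u v : List ℕ), eqL u v = true → u = v
  | [], [], _ => rfl
  | [], _ :: _, h => absurd h Bool.false_ne_true
  | _ :: _, [], h => absurd h Bool.false_ne_true
  | a :: u, b :: v, h => by
    have e : eqL (a :: u) (b :: v) = cond (Nat.beq a b) (eqL u v) false := rfl
    rw [e] at h
    cases hb : Nat.beq a b
    · rw [hb] at h
      exact absurd h Bool.false_ne_true
    · rw [hb, cond_true] at h
      rw [Nat.eq_of_beq_eq_true hb, eqL_sound u v h]

/-- test of `u = v` for words -/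
noncomputable def chkEq (Gs : List (List ℕ)) (w0 : ℕ) (u v : List ℕ) : Bool :=
  wm Gs w0 u fun L => wm Gs w0 v fun L' => eqL L L'

section

variable {G : Type*} [Group G] {Y : Type*} [MulAction G Y] (M : Mdl G Y)

theorem eq_of_rp {L : List ℕ} {g h : G} (hg : M.Rp L g) (hh : M.Rp L h) : g = h := by
  have h1 : h⁻¹ * g = 1 := M.faithful _ fun y => by
    have : g • y = h • y := M.cd_inj (by rw [hg, hh])
    rw [mul_smul, this, inv_smul_smul]
  exact (inv_mul_eq_one.1 h1).symm

/-- **equality of words** -/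
theorem word_eq {tt : ℕ → G} {Gs : List (List ℕ)} {N : ℕ} (hG : ∀ c < N, M.Rp (nthL Gs c) (tt c)) {u v : List ℕ}
    (hu : allLt N u = true) (hv : allLt N v = true) (h : chkEq Gs M.w u v = true) : wd tt u = wd tt v := by
  rw [chkEq, wm_eq, wm_eq] at h
  have h1 := eqL_sound _ _ h
  have h2 := rp_word M hG u hu
  rw [h1] at h2
  exact eq_of_rp M h2 (rp_word M hG v hv)

/-- the matrix of the word is the identity on the unit vectors at the exponent `k` -/
noncomputable def chkPow (Gs : List (List ℕ)) (w0 : ℕ) (u : List ℕ) (k : ℕ) : Bool :=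
  wm Gs w0 u fun L => pwF L k (idL w0) fun Ls => eqL (nthL Ls k) (idL w0)

theorem pow_eq_one {tt : ℕ → G} {Gs : List (List ℕ)} {N : ℕ} (hG : ∀ c < N, M.Rp (nthL Gs c) (tt c)) {u : List ℕ}
    (hu : allLt N u = true) {k : ℕ} (h : chkPow Gs M.w u k = true) : wd tt u ^ k = 1 := by
  rw [chkPow, wm_eq, pwF_eq] at h
  have h1 := eqL_sound _ _ h
  have h2 := rp_pow M (rp_word M hG u hu) k (le_refl k)
  rw [h1] at h2
  exact eq_of_rp M h2 (Mdl.Rp.one M)

theorem ne_one {tt : ℕ → G} {Gs : List (List ℕ)} {N : ℕ} (hG : ∀ c < N, M.Rp (nthL Gs c) (tt c)) {u : List ℕ}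
    (hu : allLt N u = true) (y : Y) (h : wm Gs M.w u (fun L => Nat.beq (linL L (M.cd y)) (M.cd y)) = false) :
    wd tt u ≠ 1 := by
  intro h1
  rw [wm_eq, ← rp_word M hG u hu, h1, one_smul, Nat.beq_refl] at h
  exact absurd h (by simp)

/-- the order of a word, prime case -/
theorem orderOf_word {tt : ℕ → G} {Gs : List (List ℕ)} {N : ℕ} (hG : ∀ c < N, M.Rp (nthL Gs c) (tt c)) {u : List ℕ}
    (hu : allLt N u = true) {p : ℕ} (hp : p.Prime) (h : chkPow Gs M.w u p = true) (y : Y)
    (h' : wm Gs M.w u (fun L => Nat.beq (linL L (M.cd y)) (M.cd y)) = false) : orderOf (wd tt u) = p :=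
  haveI := Fact.mk hp
  orderOf_eq_prime (pow_eq_one M hG hu h) (ne_one M hG hu y h')

end

end Cfsg.Agent.H68.Ore.WordEq
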